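import Groth.Agent.MonoFibre.AntiAffineBasic
import Groth.Agent.MonoFibre.RigidityProper
import Groth.Agent.MonoFibre.KernelFibre
import Groth.Agent.MonoFibre.HomFlat
import Groth.Agent.ProjActLib.AffineQuot
import Groth.Agent.SchDenseLib.Basic
import Groth.Agent.GrpQuotLib.Descend
import Groth.Agent.GrpQuotLib.KerGrp
import Groth.Agent.ObsLib.IdComp
import Groth.Agent.ASp.PropDescend

/-!
# Functoriality of affine and abelian parts
-/

set_option autoImplicit false
set_option backward.isDefEq.respectTransparency false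
set_option linter.unusedSectionVars false

universe u

open CategoryTheory CategoryTheory.Limits MonoidalCategory CartesianMonoidalCategory MonObj GrpObj AlgebraicGeometry

noncomputable section

namespace Groth.Agent.AffPartFun

open MonoFibre MonoFibre.AntiAffinePart MonoFibre.AntiAffineApps

variable {k : Type u} [Field k]

/-- A connected affine group has no nonconstant homomorphism to a proper group. -/
theorem comp_eq_one {N A : Over (Spec (CommRingCat.of k))} [GrpObj N] [GrpObj A] [IsAffine N.left] [Smooth N.hom]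
    [ConnectedSpace N.left] [IsProper A.hom] (f : N ⟶ A) [IsMonHom f] : f = 1 := by
  haveI : LocallyOfFiniteType N.hom := inferInstance
  haveI : QuasiCompact f.left := by
    haveI : QuasiCompact (f.left ≫ A.hom) := by rw [Over.w]; infer_instance
    exact QuasiCompact.of_comp f.left A.hom
  obtain ⟨K, _, ι', g, hι, hιc, hg, hgι, hdom, -, hgs⟩ := exists_schemeImage f
  haveI := hι; haveI := hιc; haveI := hg; haveI := hdom; haveI := hgs
  haveI : IsReduced N.left := ASp.isReduced_of_smooth N.hom
  haveI : IsReduced K.left := SchDenseLib.isReduced_of_reduced_source g.left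
  haveI : LocallyOfFiniteType K.hom := by rw [← Over.w ι']; infer_instance
  haveI : IsProper K.hom := by rw [← Over.w ι']; infer_instance
  haveI : ConnectedSpace K.left := g.left.surjective.connectedSpace g.left.continuous
  haveI := GrpSchLib.irreducibleSpace_of_connectedSpace (G := K)
  haveI : AlgebraicGeometry.IsIntegral K.left := isIntegral_of_irreducibleSpace_of_isReduced _
  haveI : IsAffine K.left := ProjActLib.isAffine_of_hom N K g
  have h1 := eq_one_of_antiAffine ((KerAntiAffine.bijective_iff K).mp (Rigidity.bijective_of_ratPt η[K])) (𝟙 K)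
  rw [← hgι, ← Category.comp_id g, h1, MonObj.comp_one, MonObj.one_comp]

variable {G' G N' N A' A : Over (Spec (CommRingCat.of k))} [GrpObj G'] [GrpObj G] [GrpObj N'] [GrpObj N]
  [GrpObj A'] [GrpObj A]

theorem main [Smooth G'.hom] [QuasiCompact G'.hom] [Smooth G.hom] [QuasiCompact G.hom]
    (f : G' ⟶ G) [IsMonHom f] [Surjective f.left]
    (i' : N' ⟶ G') [IsMonHom i'] [IsClosedImmersion i'.left] [Smooth N'.hom] [ConnectedSpace ↥N'.left]
    [IsAffine N'.left] (q' : G' ⟶ A') [IsMonHom q'] [Surjective q'.left] [Flat q'.left]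
    [IsProper A'.hom] (hk' : AlgGrp.IsKernel i' q')
    (i : N ⟶ G) [IsMonHom i] [IsClosedImmersion i.left] [Smooth N.hom] [ConnectedSpace ↥N.left] [IsAffine N.left]
    (q : G ⟶ A) [IsMonHom q] [Surjective q.left] [IsProper A.hom] (hk : AlgGrp.IsKernel i q) :
    (∃ g : N' ⟶ N, IsMonHom g ∧ g ≫ i = i' ≫ f ∧ Surjective g.left) ∧
      (∃ h : A' ⟶ A, IsMonHom h ∧ q' ≫ h = f ≫ q ∧ Surjective h.left) := by
  haveI : LocallyOfFiniteType G'.hom := inferInstance
  haveI : LocallyOfFiniteType G.hom := inferInstance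
  haveI : Mono i := Over.mono_of_mono_left i
  have hiq : i ≫ q = 1 := by simpa using comp_isKernel hk (𝟙 N)
  have h0 : i' ≫ f ≫ q = 1 := comp_eq_one _
  obtain ⟨g, hg⟩ := exists_of_isKernel hk (i' ≫ f) (by rw [Category.assoc]; exact h0)
  haveI : IsMonHom g := ⟨(cancel_mono i).1 (by rw [Category.assoc, hg, IsMonHom.one_hom, IsMonHom.one_hom i]),
    (cancel_mono i).1 (by
      rw [Category.assoc, hg, IsMonHom.mul_hom (i' ≫ f), Category.assoc, IsMonHom.mul_hom i, tensorHom_comp_tensorHom_assoc, hg])⟩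
  constructor
  · refine ⟨g, inferInstance, hg, ?_⟩
    -- the preimage of `N`
    haveI : IsClosedImmersion η[A].left := GrpSchLib.isClosedImmersion_unit
    obtain ⟨hPg, hPh⟩ := GrpQuotLib.exists_grpObj_kernel (f ≫ q)
    letI := hPg
    let P := pullback (f ≫ q) η[A]
    let iP : P ⟶ G' := pullback.fst (f ≫ q) η[A]
    haveI : IsMonHom iP := hPh
    haveI : IsClosedImmersion iP.left := MorphismProperty.of_isPullback
      (GrpQuotLib.isPullback_left (IsPullback.of_hasPullback (f ≫ q) η[A])).flip ‹IsClosedImmersion η[A].left›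
    haveI : LocallyOfFiniteType P.hom := by rw [← Over.w iP]; infer_instance
    haveI : QuasiCompact P.hom := by rw [← Over.w iP]; infer_instance
    have hPq : iP ≫ f ≫ q = 1 := by
      rw [show iP ≫ f ≫ q = pullback.snd (f ≫ q) η[A] ≫ η[A] from pullback.condition, Hom.one_def,
        toUnit_unique (pullback.snd (f ≫ q) η[A]) (toUnit _)]
    obtain ⟨φ, hφ⟩ := exists_of_isKernel hk (iP ≫ f) (by rw [Category.assoc]; exact hPq)
    haveI : IsMonHom φ := ⟨(cancel_mono i).1 (by rw [Category.assoc, hφ, IsMonHom.one_hom, IsMonHom.one_hom i]),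
      (cancel_mono i).1 (by
        rw [Category.assoc, hφ, IsMonHom.mul_hom (iP ≫ f), Category.assoc, IsMonHom.mul_hom i, tensorHom_comp_tensorHom_assoc, hφ])⟩
    haveI : Surjective φ.left := ⟨fun x => by
      obtain ⟨T, a, b, t, ht, hab⟩ := GrpSchLib.exists_lift i f x (f.left.surjective _)
      have hb : b ≫ f ≫ q = 1 := by rw [← Category.assoc, ← hab, Category.assoc, hiq, MonObj.comp_one]
      let z : T ⟶ P := pullback.lift b (toUnit T) (by rw [hb, Hom.one_def])
      have hz : z ≫ φ = a := by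
        rw [← cancel_mono i, Category.assoc, hφ, ← Category.assoc,
          show z ≫ iP = b from pullback.lift_fst _ _ _, hab]
      exact ⟨z.left t, by rw [← Scheme.Hom.comp_apply, ← Over.comp_left, hz, ht]⟩⟩
    haveI : IsReduced N.left := ASp.isReduced_of_smooth N.hom
    haveI : LocallyOfFiniteType N.hom := inferInstance
    haveI : Flat φ.left := flat_of_surjective φ
    haveI := KernelFibre.locallyOfFinitePresentation_left φ
    -- the identity component
    obtain ⟨P₀, hP₀, i₀, hi₀, hi₀o, hr₀⟩ := ObsLib.exists_identityComponent P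
    letI := hP₀
    haveI := hi₀; haveI := hi₀o
    haveI : Mono i₀ := Over.mono_of_mono_left i₀
    haveI : IsClosedImmersion i₀.left := IsClosedImmersion.of_isPreimmersion i₀.left
      (GrpSchLib.isClosed_range_of_isOpen i₀ i₀.left.isOpenEmbedding.isOpen_range)
    haveI : LocallyOfFiniteType P₀.hom := by rw [← Over.w i₀]; infer_instance
    haveI : QuasiCompact P₀.hom := by rw [← Over.w i₀]; infer_instance
    haveI : ConnectedSpace P₀.left := connectedSpace_iff_univ.mpr (by
      refine i₀.left.isOpenEmbedding.isInducing.isPreconnected_image.mp ?_ |> fun h => ⟨⟨GrpSchLib.unitPt P₀, trivial⟩, h⟩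
      rw [Set.image_univ]
      exact hr₀ ▸ isPreconnected_connectedComponent)
    -- the open image
    have hopen : IsOpen (Set.range (i₀ ≫ φ).left) := by
      rw [Over.comp_left]
      exact (φ.left.isOpenMap.comp i₀.left.isOpenEmbedding.isOpenMap).isOpen_range
    have huniv : Set.range (i₀ ≫ φ).left = Set.univ :=
      IsClopen.eq_univ ⟨GrpSchLib.isClosed_range_of_isOpen (i₀ ≫ φ) hopen, hopen⟩
        ⟨_, GrpSchLib.unitPt P₀, rfl⟩
    -- `N'` inside
    obtain ⟨z, hz⟩ : ∃ z : N' ⟶ P, z ≫ iP = i' :=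
      ⟨pullback.lift i' (toUnit N') (by rw [h0, Hom.one_def]), pullback.lift_fst _ _ _⟩
    haveI : Mono iP := Over.mono_of_mono_left iP
    haveI : IsMonHom z := ⟨(cancel_mono iP).1 (by rw [Category.assoc, hz, IsMonHom.one_hom, IsMonHom.one_hom iP]),
      (cancel_mono iP).1 (by
        rw [Category.assoc, hz, IsMonHom.mul_hom i', Category.assoc, IsMonHom.mul_hom iP, tensorHom_comp_tensorHom_assoc, hz])⟩
    haveI : LocallyOfFiniteType N'.hom := inferInstance
    obtain ⟨z₀, hz₀⟩ : ∃ z₀ : N' ⟶ P₀, z₀ ≫ i₀ = z :=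
      ⟨Over.homMk (IsOpenImmersion.lift i₀.left z.left (range_subset_of_connected z i₀))
        (by rw [← Over.w i₀, IsOpenImmersion.lift_fac_assoc, Over.w]),
        Over.OverMorphism.ext (IsOpenImmersion.lift_fac _ _ _)⟩
    haveI : IsMonHom z₀ := ⟨(cancel_mono i₀).1 (by rw [Category.assoc, hz₀, IsMonHom.one_hom, IsMonHom.one_hom i₀]),
      (cancel_mono i₀).1 (by
        rw [Category.assoc, hz₀, IsMonHom.mul_hom z, Category.assoc, IsMonHom.mul_hom i₀, tensorHom_comp_tensorHom_assoc, hz₀])⟩
    -- the proper quotient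
    let ψ : P₀ ⟶ A' := i₀ ≫ iP ≫ q'
    haveI : QuasiCompact ψ.left := by
      haveI : QuasiCompact (ψ.left ≫ A'.hom) := by rw [Over.w]; infer_instance
      exact QuasiCompact.of_comp ψ.left A'.hom
    obtain ⟨B, hB, ιB, gB, hιB, hιBc, hgB, hgBι, -, -, hgBs⟩ := exists_schemeImage ψ
    letI := hB
    haveI := hιB; haveI := hιBc; haveI := hgB; haveI := hgBs
    haveI : IsProper B.hom := by rw [← Over.w ιB]; infer_instance
    haveI : ConnectedSpace B.left := gB.left.surjective.connectedSpace gB.left.continuous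
    obtain ⟨hA₀, M, hM, iM, ht, -, -, -, hiM, hcM, hlM, hqM, hker, hO⟩ := KerAntiAffine.exists_antiAffineKernel P₀
    letI := hA₀; letI := hM
    haveI := ht; haveI := hiM; haveI := hlM; haveI := hqM; haveI := hcM
    haveI := surjective_of_isProper iM hker hO gB
    have hiMφ : iM ≫ i₀ ≫ φ = 1 := eq_one_of_antiAffine hO _
    refine ⟨fun y => ?_⟩
    obtain ⟨x, hx⟩ : y ∈ Set.range (i₀ ≫ φ).left := huniv ▸ Set.mem_univ y
    obtain ⟨T, a, m, t, ht', he⟩ := GrpSchLib.exists_lift gB (iM ≫ gB) x ((iM ≫ gB).left.surjective _)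
    obtain ⟨n, hn⟩ := exists_of_isKernel hk' ((a * (m ≫ iM)⁻¹) ≫ i₀ ≫ iP) (by
      rw [show ((a * (m ≫ iM)⁻¹) ≫ i₀ ≫ iP) ≫ q' = (a * (m ≫ iM)⁻¹) ≫ ψ by simp only [ψ, Category.assoc],
        ← hgBι, ← Category.assoc, MonObj.mul_comp, GrpObj.inv_comp, Category.assoc, he, mul_inv_cancel,
        MonObj.one_comp])
    have hn₀ : n ≫ z₀ = a * (m ≫ iM)⁻¹ := by
      rw [← cancel_mono i₀, ← cancel_mono iP, Category.assoc, Category.assoc, Category.assoc, ← Category.assoc z₀,
        hz₀, hz, hn]
    have hz₀φ : z₀ ≫ i₀ ≫ φ = g := by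
      rw [← cancel_mono i, Category.assoc, Category.assoc, hφ, ← Category.assoc z₀, hz₀, ← Category.assoc, hz, hg]
    have hgn : n ≫ g = a ≫ i₀ ≫ φ := by
      rw [← hz₀φ, ← Category.assoc, hn₀, MonObj.mul_comp, GrpObj.inv_comp, Category.assoc m, hiMφ, MonObj.comp_one,
        inv_one, _root_.mul_one]
    exact ⟨n.left t, by rw [← Scheme.Hom.comp_apply, ← Over.comp_left, hgn, Over.comp_left, Scheme.Hom.comp_apply, ht', hx]⟩
  · haveI : LocallyOfFiniteType A'.hom := inferInstance
    haveI := KernelFibre.quasiCompact_left q'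
    haveI := SchDesc.IsFpqc.of_quasiCompact q'.left
    haveI := GrpQuotLib.epi_of_isFpqc q'
    obtain ⟨h, hh⟩ := GrpQuotLib.exists_desc q' (f ≫ q) fun T a b e => by
      obtain ⟨n, hn⟩ := exists_of_isKernel hk' (a * b⁻¹) (by rw [MonObj.mul_comp, GrpObj.inv_comp, e, mul_inv_cancel])
      have h2 := congrArg (n ≫ ·) h0
      simp only [MonObj.comp_one, ← Category.assoc, hn] at h2
      simp only [Category.assoc, MonObj.mul_comp, GrpObj.inv_comp, mul_inv_eq_one] at h2
      exact h2
    refine ⟨h, ⟨?_, ?_⟩, hh, ?_⟩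
    · rw [← IsMonHom.one_hom q', Category.assoc, hh, IsMonHom.one_hom]
    · haveI := GrpQuotLib.isFpqc_whiskerRight q' A'
      haveI := GrpQuotLib.isFpqc_whiskerLeft q' G'
      haveI : SchDesc.IsFpqc (q' ⊗ₘ q').left := by
        rw [MonoidalCategory.tensorHom_def', Over.comp_left]
        exact GrpQuotLib.isFpqc_comp _ _
      haveI := GrpQuotLib.epi_of_isFpqc (q' ⊗ₘ q')
      rw [← cancel_epi (q' ⊗ₘ q'), ← Category.assoc, ← IsMonHom.mul_hom q', Category.assoc, hh,
        tensorHom_comp_tensorHom_assoc, hh, IsMonHom.mul_hom (f ≫ q)]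
    · haveI : Surjective (q'.left ≫ h.left) := by rw [← Over.comp_left, hh, Over.comp_left]; infer_instance
      exact Surjective.of_comp q'.left h.left

end Groth.Agent.AffPartFun
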